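import Cfsg.Agent.NilMax.ParityMain
import Cfsg.Agent.H77.CoprimeNilpotentMax
import Cfsg.Agent.S0205

/-!
A coprime action with a nilpotent maximal invariant subgroup whose Sylow 2-subgroups have class at
most two forces solvability.
-/

set_option autoImplicit false
set_option linter.style.haveILetI false
set_option linter.style.header false
set_option linter.unusedSectionVars false

namespace Cfsg.Agent.NilMax

open Subgroup
open scoped commutatorElement
open Cfsg.Agent.H77 (IsInv)

universe u v

/-- The 2-subgroups have class at most two. -/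
def TwoClass {G : Type u} [Group G] (M : Subgroup G) : Prop :=
  ∀ R : Subgroup G, R ≤ M → IsPGroup 2 R → ∀ x ∈ R, ∀ y ∈ R, ∀ w ∈ R, Commute w ⁅x, y⁆

theorem twoClass_of_sylow {G : Type u} [Group G] [Finite G] (M : Subgroup G)
    (h : ∀ S : Sylow 2 ↥M, Group.nilpotencyClass ↥(S : Subgroup ↥M) ≤ 2) [Group.IsNilpotent M] :
    TwoClass M := by
  intro R hRM hR x hx y hy w hw
  obtain ⟨S, hS⟩ := (hR.comap_subtype (K := M)).exists_le_sylow
  haveI : Group.IsNilpotent (S : Subgroup ↥M) := S.2.isNilpotent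
  have htop : Subgroup.upperCentralSeries (S : Subgroup ↥M) 2 = ⊤ :=
    Subgroup.upperCentralSeries_eq_top_iff_nilpotencyClass_le.2 (h S)
  have hc : ⁅(⟨⟨x, hRM hx⟩, hS hx⟩ : (S : Subgroup ↥M)), ⟨⟨y, hRM hy⟩, hS hy⟩⁆ ∈
      center (S : Subgroup ↥M) := by
    rw [← Subgroup.upperCentralSeries_one]
    exact Subgroup.mem_upperCentralSeries_succ_iff.1 (by rw [htop]; exact mem_top _) _
  exact congrArg (fun z : (S : Subgroup ↥M) => ((z : ↥M) : G))
    (mem_center_iff.1 hc ⟨⟨w, hRM hw⟩, hS hw⟩)

theorem twoClass_map {G : Type u} [Group G] [Finite G] {H : Type u} [Group H] [Finite H]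
    (f : G →* H) (M : Subgroup G) [Group.IsNilpotent M] (h : TwoClass M) : TwoClass (M.map f) := by
  intro R hRM hR x hx y hy w hw
  have hsurj := f.subgroupMap_surjective M
  haveI : Group.IsNilpotent (M.map f) := Group.nilpotent_of_surjective _ hsurj
  obtain ⟨S0⟩ : Nonempty (Sylow 2 M) := inferInstance
  let T := S0.mapSurjective hsurj
  obtain ⟨T', hT'⟩ := (hR.comap_subtype (K := M.map f)).exists_le_sylow
  haveI : (T : Subgroup (M.map f)).Normal := inferInstance
  haveI := T.unique_of_normal ‹_›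
  have hlift : ∀ z ∈ R, ∃ s ∈ (S0 : Subgroup M).map M.subtype, f s = z := by
    intro z hz
    have h1 : (⟨z, hRM hz⟩ : M.map f) ∈ (T : Subgroup (M.map f)) :=
      Subsingleton.elim T' T ▸ hT' hz
    obtain ⟨s, hs, hsz⟩ := h1
    exact ⟨s, ⟨s, hs, rfl⟩, congrArg Subtype.val hsz⟩
  obtain ⟨a, ha, rfl⟩ := hlift x hx
  obtain ⟨b, hb, rfl⟩ := hlift y hy
  obtain ⟨c, hc, rfl⟩ := hlift w hw
  rw [← map_commutatorElement]
  exact (h _ (map_subtype_le _) (S0.2.map _) a ha b hb c hc).map f

variable {A : Type v} [Group A] [Finite A]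

theorem coprime_inv_normal_complement {G : Type u} [Group G] [Finite G] [MulDistribMulAction A G]
    [Group.IsSolvable A] (hcop : (Nat.card A).Coprime (Nat.card G)) {M : Subgroup G} (hM : M ≠ ⊤)
    (hMi : IsInv A M) (hmax : ∀ H : Subgroup G, M ≤ H → H ≠ ⊤ → IsInv A H → H = M)
    [Group.IsNilpotent M]
    (hN : ∀ p : ℕ, p.Prime → p ∣ Nat.card M → Cfsg.HasNormalPComplement p G)
    (hall : ∀ p : ℕ, p.Prime → p ∣ Nat.card M → ¬ p ∣ M.index) :
    Group.IsSolvable G := by
  set K : Subgroup G := ⨅ p ∈ (Nat.card M).primeFactors, Cfsg.pResidual p G with hK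
  haveI hKn : K.Normal := by
    refine ⟨fun x hx g => ?_⟩
    simp only [hK, mem_iInf] at hx ⊢
    intro p hp
    exact (inferInstance : (Cfsg.pResidual p G).Normal).conj_mem _ (hx p hp) g
  have hKi : IsInv A K := by
    intro a x hx
    simp only [hK, mem_iInf] at hx ⊢
    exact fun p hp => H77.inv_pResidual p a x (hx p hp)
  have hcopK : (Nat.card M).Coprime (Nat.card K) := by
    refine Nat.coprime_of_dvd fun r hr hrM hrK => ?_
    haveI : Fact r.Prime := ⟨hr⟩
    have hle : K ≤ Cfsg.pResidual r G :=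
      iInf₂_le r (Nat.mem_primeFactors.2 ⟨hr, hrM, Nat.card_pos.ne'⟩)
    exact Transfer.hasNormalPComplement_iff.1 (hN r hr hrM) (hrK.trans (card_dvd_of_le hle))
  obtain ⟨q, hq, hqi⟩ := Nat.exists_prime_and_dvd (fun h => hM (index_eq_one.1 h))
  haveI : Fact q.Prime := ⟨hq⟩
  have hqM : ¬ q ∣ Nat.card M := fun h => hall q hq h hqi
  obtain ⟨x, hx⟩ := exists_prime_orderOf_dvd_card' (G := G) q (hqi.trans M.index_dvd_card)
  have hxK : x ∈ K := by
    simp only [hK, mem_iInf]
    intro p hp
    refine Transfer.mem_pResidual_of_coprime ?_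
    rw [hx, Nat.coprime_primes hq (Nat.prime_of_mem_primeFactors hp)]
    rintro rfl
    exact hqM (Nat.dvd_of_mem_primeFactors hp)
  have hqK : q ∣ Nat.card K := hx ▸ orderOf_dvd_natCard K hxK
  -- `M` and `A` act on `K`
  let toAut : ∀ (H : Subgroup G), IsInv A H → (A →* MulAut H) := fun H hH =>
    { toFun := fun a =>
        { toFun := fun m => ⟨a • (m : G), hH a m m.2⟩
          invFun := fun m => ⟨a⁻¹ • (m : G), hH a⁻¹ m m.2⟩
          left_inv := fun m => Subtype.ext (inv_smul_smul a (m : G))
          right_inv := fun m => Subtype.ext (smul_inv_smul a (m : G))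
          map_mul' := fun m n => Subtype.ext (smul_mul' a (m : G) (n : G)) }
      map_one' := MulEquiv.ext fun m => Subtype.ext (one_smul A (m : G))
      map_mul' := fun a b => MulEquiv.ext fun m => Subtype.ext (mul_smul a b (m : G)) }
  let ψ := toAut M hMi
  let θ : M ⋊[ψ] A →* MulAut K :=
    SemidirectProduct.lift ((MulAut.conjNormal).comp M.subtype) (toAut K hKi) fun a => by
      refine MonoidHom.ext fun m => MulEquiv.ext fun k => Subtype.ext ?_
      simp only [MonoidHom.comp_apply, MulEquiv.coe_toMonoidHom, MulAut.conj_apply,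
        MulAut.mul_apply]
      show (a • (m : G)) * k * (a • (m : G))⁻¹ = a • ((m : G) * (a⁻¹ • (k : G)) * (m : G)⁻¹)
      rw [smul_mul', smul_mul', smul_inv', smul_inv_smul]
  letI : MulDistribMulAction (M ⋊[ψ] A) K := MulDistribMulAction.compHom K θ
  haveI : Finite (M ⋊[ψ] A) := Finite.of_equiv _ SemidirectProduct.equivProd.symm
  haveI : Group.IsSolvable (M ⋊[ψ] A) :=
    Group.isSolvable_of_ker_le_range (SemidirectProduct.inl : M →* M ⋊[ψ] A)
      SemidirectProduct.rightHom SemidirectProduct.range_inl_eq_ker_rightHom.ge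
  obtain ⟨Q, hQ⟩ := CoprimeAct.exists_invariant_sylow_smul (A := M ⋊[ψ] A) (G := K)
    (by
      rw [Nat.card_congr SemidirectProduct.equivProd, Nat.card_prod]
      exact hcopK.mul_left (hcop.coprime_dvd_right K.card_subgroup_dvd_card))
    (Or.inl inferInstance) q
  set Pm := (Q : Subgroup K).map K.subtype with hPm
  have hMP : ∀ m ∈ M, ∀ y ∈ Pm, m * y * m⁻¹ ∈ Pm := by
    rintro m hm _ ⟨k, hk, rfl⟩
    refine ⟨_, hQ (SemidirectProduct.inl ⟨m, hm⟩) k hk, ?_⟩
    show ((θ (SemidirectProduct.inl ⟨m, hm⟩) k : K) : G) = m * k * m⁻¹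
    rw [SemidirectProduct.lift_inl]
    rfl
  have hPi : IsInv A Pm := by
    rintro a _ ⟨k, hk, rfl⟩
    refine ⟨_, hQ (SemidirectProduct.inr a) k hk, ?_⟩
    show ((θ (SemidirectProduct.inr a) k : K) : G) = a • (k : G)
    rw [SemidirectProduct.lift_inr]
    rfl
  have hPne : Pm ≠ ⊥ := fun h => Q.ne_bot_of_dvd_card hqK
    ((map_eq_bot_iff_of_injective _ K.subtype_injective).1 h)
  have hsup : M ⊔ Pm = ⊤ := by
    by_contra hne
    have h1 : Pm ≤ M := hmax _ le_sup_left hne (H77.inv_sup hMi hPi) ▸ le_sup_right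
    exact hPne (le_bot_iff.1 ((disjoint_of_coprime_natCard hcopK) h1 (map_subtype_le _)))
  haveI : Pm.Normal := by
    rw [← normalizer_eq_top_iff, eq_top_iff, ← hsup]
    refine sup_le (fun m hm => ?_) le_normalizer
    rw [mem_normalizer_iff]
    refine fun y => ⟨hMP m hm y, fun hy => ?_⟩
    simpa [mul_assoc] using hMP m⁻¹ (inv_mem hm) _ hy
  haveI : Group.IsNilpotent Pm := (Q.2.map K.subtype).isNilpotent
  have hsurj : Function.Surjective ((QuotientGroup.mk' Pm).comp M.subtype) := by
    rw [← MonoidHom.range_eq_top, MonoidHom.range_comp, range_subtype]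
    have := congrArg (Subgroup.map (QuotientGroup.mk' Pm)) hsup
    rw [Subgroup.map_sup, QuotientGroup.map_mk'_self, sup_bot_eq,
      Subgroup.map_top_of_surjective _ (QuotientGroup.mk'_surjective Pm)] at this
    exact this
  haveI := Group.isSolvable_of_surjective hsurj
  exact Group.isSolvable_of_ker_le_range Pm.subtype (QuotientGroup.mk' Pm) (by simp)

/-- The 2-part: no odd automorphisms of 2-locals. -/
theorem centralize_two_coprime {G : Type u} [Group G] [Finite G] [MulDistribMulAction A G]
    (hA : Odd (Nat.card A)) {M : Subgroup G} [Group.IsNilpotent M] (hcl : TwoClass M)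
    (P : Sylow 2 G) (hPM : (P : Subgroup G) ≤ M) (hPne : (P : Subgroup G) ≠ ⊥)
    (hPi : IsInv A (P : Subgroup G)) (hMP : M ≤ normalizer ((P : Subgroup G) : Set G))
    (hNeq : ∀ R : Subgroup G, R ≠ ⊥ → R ≤ M → IsInv A R → M ≤ normalizer (R : Set G) →
      normalizer (R : Set G) = M) :
    Cfsg.HasNormalPComplement 2 G := by
  have hodd : ∀ m ∈ M, Nat.Coprime (orderOf m) 2 → m ∈ centralizer ((P : Subgroup G) : Set G) := by
    intro m hm hmo
    rw [mem_centralizer_iff]
    intro r hr
    obtain ⟨a, ha⟩ := P.2 ⟨r, hr⟩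
    have ha' : r ^ 2 ^ a = 1 := by simpa using congrArg Subtype.val ha
    have hco : Nat.Coprime (orderOf (⟨r, hPM hr⟩ : M)) (orderOf (⟨m, hm⟩ : M)) := by
      rw [← orderOf_coe, ← orderOf_coe]
      exact Nat.Coprime.coprime_dvd_left (orderOf_dvd_of_pow_eq_one ha') (hmo.pow_right a).symm
    exact congrArg Subtype.val (Char.nilpotent_commute_of_coprime hco).eq
  have hyp : Parity.Hyp M P := by
    refine ⟨hPM, hNeq _ hPne hPM hPi hMP, hcl _ hPM P.2, fun m hm => ?_, hodd⟩
    have hle := Parity.le_of_odd_and_sylow (P := P) (L := M)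
      (C := (P : Subgroup G) ⊔ centralizer ((P : Subgroup G) : Set G)) hPM le_sup_left
      (fun g hg hgo => mem_sup_right (hodd g hg hgo)) hm
    have h' : m ∈ (↑((P : Subgroup G) ⊔ centralizer ((P : Subgroup G) : Set G)) : Set G) := hle
    rw [coe_mul_of_right_le_normalizer_left _ _ (centralizer_le_normalizer _)] at h'
    obtain ⟨x, hx, c, hc, rfl⟩ := h'
    exact ⟨x, hx, c, hc, rfl⟩
  refine Transfer.hasNormalPComplement_of_coprime_centralize
    (centralize_two P fun R hRP hRne hz => ?_)
  have hbig : Parity.Big P R := ⟨hRP, fun x hx y hy => hz _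
    (by rw [commutatorElement_def]; exact mul_mem (mul_mem (mul_mem hx hy) (inv_mem hx)) (inv_mem hy))
    fun w hw => hyp.cls x hx y hy w hw⟩
  by_contra hng
  obtain ⟨Q, hQ⟩ := Parity.exists_bad hyp hbig hng
  refine Parity.no_bad (MulDistribMulAction.toMulAut A G) hPi hyp hA ?_ Q hQ
  intro S hS hSP hSi hMS
  exact (hNeq S hS (hSP.trans hPM) hSi hMS).le

theorem isSolvable_coprime_aux [Group.IsSolvable A] (hA : Odd (Nat.card A)) :
    ∀ (n : ℕ) (G : Type u) [Group G] [Finite G] [MulDistribMulAction A G], Nat.card G = n →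
      (Nat.card A).Coprime (Nat.card G) → ∀ M : Subgroup G, M ≠ ⊤ → IsInv A M →
      (∀ H : Subgroup G, M ≤ H → H ≠ ⊤ → IsInv A H → H = M) → Group.IsNilpotent M →
      TwoClass M → Group.IsSolvable G := by
  intro n
  induction n using Nat.strong_induction_on with
  | _ n ih =>
    intro G _ _ _ hn hcop M hMt hMi hmax hnil hcl
    haveI := hnil
    by_cases hcore : ∃ N : Subgroup G, N.Normal ∧ IsInv A N ∧ N ≠ ⊥ ∧ N ≤ M
    · obtain ⟨N, hNn, hNi, hNne, hNM⟩ := hcore
      haveI := hNn
      letI := H77.quotientAction N hNi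
      haveI : Group.IsSolvable N :=
        Group.isSolvable_of_isSolvable_injective (inclusion_injective hNM)
      have hsurjq := QuotientGroup.mk'_surjective N
      have hcm : (M.map (QuotientGroup.mk' N)).comap (QuotientGroup.mk' N) = M := by
        rw [comap_map_eq, QuotientGroup.ker_mk', sup_eq_left.2 hNM]
      have hlt : Nat.card (G ⧸ N) < n := by
        rw [← hn, N.card_eq_card_quotient_mul_card_subgroup]
        exact lt_mul_of_one_lt_right Nat.card_pos (N.one_lt_card_iff_ne_bot.2 hNne)
      haveI := ih _ hlt (G ⧸ N) rfl (hcop.coprime_dvd_right (card_quotient_dvd_card N))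
        (M.map (QuotientGroup.mk' N))
        (fun h => hMt (by rw [← hcm, h, comap_top]))
        (fun a x hx => by
          obtain ⟨m, hm, rfl⟩ := hx
          exact ⟨a • m, hMi a m hm, rfl⟩)
        (fun H hle hne hHi => by
          have h1 := hmax (H.comap (QuotientGroup.mk' N)) (map_le_iff_le_comap.1 hle)
            (fun h => hne (by
              rw [← map_comap_eq_self_of_surjective hsurjq H, h, map_top_of_surjective _ hsurjq]))
            (fun a x hx => hHi a (x : G ⧸ N) hx)
          rw [← map_comap_eq_self_of_surjective hsurjq H, h1])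
        (Group.nilpotent_of_surjective _ ((QuotientGroup.mk' N).subgroupMap_surjective M))
        (twoClass_map _ M hcl)
      exact Group.isSolvable_of_ker_le_range N.subtype (QuotientGroup.mk' N) (by simp)
    push Not at hcore
    rcases eq_or_ne M ⊥ with rfl | hMne
    · obtain ⟨p, hp, hpd⟩ := Nat.exists_prime_and_dvd (n := Nat.card G)
        fun h => hMt (card_eq_iff_eq_top _ |>.1 (by rw [card_bot, h]))
      haveI : Fact p.Prime := ⟨hp⟩
      obtain ⟨P, hP⟩ := CoprimeAct.exists_invariant_sylow_smul hcop (Or.inl inferInstance) p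
      have htop : (P : Subgroup G) = ⊤ := by
        by_contra h
        exact P.ne_bot_of_dvd_card hpd (hmax _ bot_le h hP)
      have hG : IsPGroup p G := by
        have := P.2
        rw [htop] at this
        exact this.of_equiv topEquiv
      haveI := hG.isNilpotent
      infer_instance
    have hNeq : ∀ R : Subgroup G, R ≠ ⊥ → R ≤ M → IsInv A R → M ≤ normalizer (R : Set G) →
        normalizer (R : Set G) = M := by
      intro R hR hRM hRi hMR
      refine hmax _ hMR (fun h => ?_) (H77.inv_normalizer hRi)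
      exact hcore R (normalizer_eq_top_iff.1 h) hRi hR hRM
    have hsyl : ∀ p : ℕ, p.Prime → p ∣ Nat.card M →
        ∃ P : Sylow p G, (P : Subgroup G) ≤ M ∧ (P : Subgroup G) ≠ ⊥ ∧ IsInv A (P : Subgroup G) ∧
          M ≤ normalizer ((P : Subgroup G) : Set G) := by
      intro p hp hpM
      haveI : Fact p.Prime := ⟨hp⟩
      obtain ⟨S⟩ : Nonempty (Sylow p M) := inferInstance
      haveI : (S : Subgroup M).Normal := inferInstance
      haveI := S.unique_of_normal ‹_›
      set Sm := (S : Subgroup M).map M.subtype with hSm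
      have hSmp : IsPGroup p Sm := S.2.map _
      have hSne : Sm ≠ ⊥ := fun h => S.ne_bot_of_dvd_card hpM
        ((map_eq_bot_iff_of_injective _ M.subtype_injective).1 h)
      have hSM : Sm ≤ M := map_subtype_le _
      have hMS : M ≤ normalizer (Sm : Set G) := by
        intro m hm
        exact le_normalizer_map M.subtype
          ⟨⟨m, hm⟩, by rw [normalizer_eq_top_iff.2 (inferInstance : (S : Subgroup M).Normal)]; exact mem_top _, rfl⟩
      have hSi : IsInv A Sm := by
        intro a x hx
        set T := Sm.map (MulDistribMulAction.toMonoidHom G a) with hT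
        have hTM : T ≤ M := by
          rintro _ ⟨y, hy, rfl⟩
          exact hMi a y (hSM hy)
        obtain ⟨S', hS'⟩ := ((hSmp.map (MulDistribMulAction.toMonoidHom G a)).comap_subtype
          (K := M)).exists_le_sylow
        have hax : a • x ∈ T := ⟨x, hx, rfl⟩
        exact ⟨⟨a • x, hTM hax⟩, Subsingleton.elim S' S ▸ hS' hax, rfl⟩
      obtain ⟨P, hP⟩ := hSmp.exists_le_sylow
      suffices h : (P : Subgroup G) = Sm by
        exact ⟨P, h ▸ hSM, h ▸ hSne, h ▸ hSi, h ▸ hMS⟩
      by_contra hne
      have h1 := PGroup.lt_inf_normalizer P.2 (lt_of_le_of_ne hP (Ne.symm hne))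
      rw [hNeq Sm hSne hSM hSi hMS] at h1
      have h2 : IsPGroup p ((((P : Subgroup G) ⊓ M).subgroupOf M)) :=
        (P.2.to_le inf_le_left).comap_subtype
      have h3 : (S : Subgroup M) ≤ ((P : Subgroup G) ⊓ M).subgroupOf M := fun x hx =>
        mem_subgroupOf.2 (h1.le ⟨x, hx, rfl⟩)
      have h4 := S.3 h2 h3
      refine h1.ne ?_
      rw [hSm, ← h4, subgroupOf_map_subtype, inf_eq_left.2 inf_le_right]
    have hall : ∀ p : ℕ, p.Prime → p ∣ Nat.card M → ¬ p ∣ M.index := by
      intro p hp hpM
      haveI : Fact p.Prime := ⟨hp⟩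
      obtain ⟨P, hPM, -, -, -⟩ := hsyl p hp hpM
      exact fun h => P.not_dvd_index (h.trans (index_dvd_of_le hPM))
    refine coprime_inv_normal_complement hcop hMt hMi hmax (fun p hp hpM => ?_) hall
    haveI : Fact p.Prime := ⟨hp⟩
    obtain ⟨P, hPM, hPne, hPi, hMP⟩ := hsyl p hp hpM
    by_cases hp2 : p = 2
    · subst hp2
      exact centralize_two_coprime hA hcl P hPM hPne hPi hMP hNeq
    · refine (S0117.result hp2 P).2 ?_
      have hle : Cfsg.centerThompsonOf p (P : Subgroup G) ≤ M :=
        (Modules.centerThompsonOf_le p _).trans hPM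
      have hZi : IsInv A (Cfsg.centerThompsonOf p (P : Subgroup G)) := H77.inv_of_map_eq fun a => by
        rw [Modules.map_centerThompsonOf (show Function.Injective
            (MulDistribMulAction.toMonoidHom G a) from MulAction.injective a),
          H77.map_eq_of_inv hPi a]
      rw [hNeq _ (Modules.centerThompsonOf_ne_bot P.2 hPne) hle hZi
        (hMP.trans (Modules.normalizer_le_normalizer_centerThompsonOf p _))]
      exact Solvable.hasNormalPComplement_of_isNilpotent M

end Cfsg.Agent.NilMax
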